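import Mathlib
import Cfsg.Agent.Lib.Transfer.Fusion
import Cfsg.Agent.Lib.Transfer.PResidual
import Cfsg.Agent.Lib.PLocal.NormalPComplementThms
import Cfsg.Agent.Lib.Transfer.ZJFull
import Cfsg.Agent.S0117

/-!
Owner: helper29. A simple group in which all the twisted centralisers of elements under a group of
automorphisms containing the inner ones are maximal must be commutative.
-/

set_option autoImplicit false
set_option linter.all false

namespace CfsgLib.Perm.ExtremelyPrimitiveSocle

open Subgroup

variable {H T : Type*} [Group H] [Group T]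

/-- The twisted stabiliser of an element. -/
def twist (θ : H →* MulAut T) (ε : H →* ℤˣ) (x : T) : Subgroup H where
  carrier := {h | θ h x = x ^ (ε h : ℤ)}
  one_mem' := by simp
  mul_mem' := by
    intro a b ha hb
    simp only [Set.mem_setOf_eq] at *
    rw [map_mul, MulAut.mul_apply, hb, map_zpow, ha, map_mul, Units.val_mul, zpow_mul]
  inv_mem' := by
    intro a ha
    simp only [Set.mem_setOf_eq] at *
    apply (θ a).injective
    rw [← MulAut.mul_apply, ← map_mul, mul_inv_cancel, map_one, MulAut.one_apply, map_zpow, ha,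
      ← zpow_mul, ← Units.val_mul, ← map_mul, mul_inv_cancel, map_one, Units.val_one, zpow_one]

variable {θ : H →* MulAut T} {ε : H →* ℤˣ}

theorem mem_twist {x : T} {h : H} : h ∈ twist θ ε x ↔ θ h x = x ^ (ε h : ℤ) := Iff.rfl

theorem twist_le_pow (x : T) (n : ℕ) : twist θ ε x ≤ twist θ ε (x ^ n) := by
  intro h hh
  rw [mem_twist] at hh ⊢
  rw [map_pow, hh, ← zpow_natCast, ← zpow_natCast, ← zpow_mul, ← zpow_mul, mul_comm]

/-- The automorphisms which stabilise a subgroup. -/
def stab (θ : H →* MulAut T) (U : Subgroup T) : Subgroup H where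
  carrier := {h | U.map (θ h).toMonoidHom = U}
  one_mem' := by
    simp only [Set.mem_setOf_eq, map_one]
    exact U.map_id
  mul_mem' := by
    intro a b ha hb
    simp only [Set.mem_setOf_eq] at *
    rw [map_mul, show (θ a * θ b).toMonoidHom = (θ a).toMonoidHom.comp (θ b).toMonoidHom from rfl,
      ← Subgroup.map_map, hb, ha]
  inv_mem' := by
    intro a ha
    simp only [Set.mem_setOf_eq] at *
    conv_lhs => rw [← ha]
    rw [Subgroup.map_map, map_inv,
      show (θ a)⁻¹.toMonoidHom.comp (θ a).toMonoidHom = MonoidHom.id T from MonoidHom.ext (θ a).symm_apply_apply,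
      Subgroup.map_id]

theorem map_centralizer_singleton (f : MulAut T) (x : T) :
    (centralizer ({x} : Set T)).map f.toMonoidHom = centralizer {f x} := by
  ext y
  simp only [Subgroup.mem_map_equiv, mem_centralizer_singleton_iff]
  constructor <;> intro h
  · simpa using congrArg f h
  · apply f.injective
    simpa using h

theorem centralizer_zpow_unit (x : T) (u : ℤˣ) :
    centralizer ({x ^ (u : ℤ)} : Set T) = centralizer {x} := by
  rcases Int.units_eq_one_or u with rfl | rfl
  · simp
  · ext y
    simp only [Units.val_neg, Units.val_one, zpow_neg, zpow_one, mem_centralizer_singleton_iff]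
    exact ⟨fun h => (Commute.inv_right_iff.1 h : Commute y x), fun h => (Commute.inv_right h : Commute y x⁻¹)⟩

theorem commutative_of_isPGroup [Finite T] [IsSimpleGroup T] {p : ℕ} [Fact p.Prime] (h : IsPGroup p T) :
    IsMulCommutative T := by
  rcases (inferInstance : (Subgroup.center T).Normal).eq_bot_or_eq_top with e | e
  · exact absurd e h.bot_lt_center.ne'
  · exact ⟨⟨fun a b => (mem_center_iff.1 (e ▸ mem_top b : b ∈ center T) a)⟩⟩

variable [Finite T] [IsSimpleGroup T]

theorem not_hasNormalPComplement {p : ℕ} [Fact p.Prime] (hT : ¬ IsMulCommutative T)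
    (hdvd : p ∣ Nat.card T) : ¬ Cfsg.HasNormalPComplement p T := by
  rintro ⟨P, N, hN, hc⟩
  rcases hN.eq_bot_or_eq_top with rfl | rfl
  · rw [isComplement'_bot_left] at hc
    have := P.isPGroup'
    rw [hc] at this
    exact hT (commutative_of_isPGroup (this.of_equiv topEquiv))
  · rw [isComplement'_top_left] at hc
    exact P.ne_bot_of_dvd_card hdvd hc

theorem false_of_twist (hT : ¬ IsMulCommutative T)
    (inner : ∀ t : T, ∃ h : H, ε h = 1 ∧ θ h = MulAut.conj t)
    (hmax : ∀ x : T, x ≠ 1 → IsCoatom (twist θ ε x)) : False := by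
  classical
  -- an odd prime divisor
  obtain ⟨p, hp, hdvd, hp2⟩ : ∃ p : ℕ, p.Prime ∧ p ∣ Nat.card T ∧ p ≠ 2 := by
    by_contra hcon
    push Not at hcon
    haveI : Fact (Nat.Prime 2) := ⟨Nat.prime_two⟩
    exact hT (commutative_of_isPGroup (p := 2) (IsPGroup.iff_card.2 ⟨_, Nat.eq_prime_pow_of_unique_prime_dvd
      Nat.card_pos.ne' fun {d} hd hdd => hcon d hd hdd⟩))
  haveI : Fact p.Prime := ⟨hp⟩
  obtain ⟨P⟩ : Nonempty (Sylow p T) := inferInstance
  have hPb : (P : Subgroup T) ≠ ⊥ := P.ne_bot_of_dvd_card hdvd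
  obtain ⟨⟨x, hxP, hxc⟩, hx⟩ := ne_bot_iff_exists_ne_one.1
    (CfsgLib.PLocal.center_ne_bot P.isPGroup' hPb)
  have hx1 : x ≠ 1 := fun e => hx (Subtype.ext e)
  set M := centralizer ({x} : Set T) with hM
  have hPM : (P : Subgroup T) ≤ M := fun y hy =>
    mem_centralizer_singleton_iff.2 ((mem_centralizer_iff.1 hxc y hy))
  -- twisted stabilisers of commuting elements of coprime order
  have key : ∀ a b : T, a ≠ 1 → b ≠ 1 → Commute a b → (orderOf a).Coprime (orderOf b) →
      centralizer ({a} : Set T) = centralizer {b} := by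
    intro a b ha hb hab hco
    have hpow : ∀ a b : T, Commute a b → (orderOf a).Coprime (orderOf b) → ∃ n : ℕ, (a * b) ^ n = a := by
      intro a b hab hco
      obtain ⟨m, hm⟩ := exists_pow_eq_self_of_coprime (x := a) hco.symm
      exact ⟨orderOf b * m, by
        rw [pow_mul, hab.mul_pow, pow_orderOf_eq_one, mul_one]; exact hm⟩
    have hab1 : a * b ≠ 1 := fun e => ha (by
      obtain ⟨n, hn⟩ := hpow a b hab hco
      rw [← hn, e, one_pow])
    obtain ⟨n, hn⟩ := hpow a b hab hco
    obtain ⟨m, hm⟩ := hpow b a hab.symm hco.symm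
    rw [← hab.eq] at hm
    have h1 : twist θ ε (a * b) ≤ twist θ ε a := by
      have := twist_le_pow (θ := θ) (ε := ε) (a * b) n
      rwa [hn] at this
    have h2 : twist θ ε (a * b) ≤ twist θ ε b := by
      have := twist_le_pow (θ := θ) (ε := ε) (a * b) m
      rwa [hm] at this
    have e1 : twist θ ε a = twist θ ε b := by
      exact (((hmax _ hab1).le_iff.1 h1).resolve_left (hmax a ha).1).trans
        (((hmax _ hab1).le_iff.1 h2).resolve_left (hmax b hb).1).symm
    ext t
    obtain ⟨h, he, hh⟩ := inner t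
    have : ∀ y : T, h ∈ twist θ ε y ↔ t ∈ centralizer ({y} : Set T) := fun y => by
      rw [mem_twist, he, hh, Units.val_one, zpow_one, MulAut.conj_apply, mul_inv_eq_iff_eq_mul,
        mem_centralizer_singleton_iff]
    rw [← this, ← this, e1]
  -- the twisted stabiliser of `x` is the stabiliser of any subgroup it stabilises
  have hstab : ∀ U : Subgroup T, U ≠ ⊥ → U ≠ ⊤ → twist θ ε x ≤ stab θ U →
      normalizer (U : Set T) ≤ M := by
    intro U hb ht hle t hn
    have hne : stab θ U ≠ ⊤ := by
      intro e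
      have hnorm : U.Normal := ⟨fun u hu g => by
        obtain ⟨h, -, hh⟩ := inner g
        have hm : h ∈ stab θ U := by rw [e]; exact mem_top h
        change U.map (θ h).toMonoidHom = U at hm
        rw [← hm, hh]
        exact ⟨u, hu, rfl⟩⟩
      exact (hnorm.eq_bot_or_eq_top).elim hb ht
    have heq := ((hmax x hx1).le_iff.1 hle).resolve_left hne
    obtain ⟨h, he, hh⟩ := inner t
    have hmem : h ∈ stab θ U := by
      show U.map (θ h).toMonoidHom = U
      rw [hh]
      exact (mem_normalizer_iff_map_conj_eq.1 hn)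
    rw [heq, mem_twist, he, hh, Units.val_one, zpow_one, MulAut.conj_apply, mul_inv_eq_iff_eq_mul] at hmem
    exact mem_centralizer_singleton_iff.2 hmem
  have hMmap : ∀ h ∈ twist θ ε x, M.map (θ h).toMonoidHom = M := fun h hh => by
    rw [hM, map_centralizer_singleton, mem_twist.1 hh, centralizer_zpow_unit]
  have hPtop : (P : Subgroup T) ≠ ⊤ := by
    intro e
    have := P.isPGroup'
    rw [e] at this
    exact hT (commutative_of_isPGroup (this.of_equiv topEquiv))
  by_cases hMp : IsPGroup p M
  · -- the centraliser is a Sylow subgroup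
    have hMP : M = (P : Subgroup T) := P.is_maximal' hMp hPM
    set U := Cfsg.centerThompsonOf p (P : Subgroup T) with hU
    have hUP : U ≤ (P : Subgroup T) := CfsgLib.Transfer.centerThompsonOf_le _
    have hUb : U ≠ ⊥ := CfsgLib.PLocal.center_ne_bot (P.isPGroup'.to_le (Subgroup.map_subtype_le _))
      ((CfsgLib.PLocal.thompsonLoc p).W_ne _ P.isPGroup' hPb)
    have hle : twist θ ε x ≤ stab θ U := by
      intro h hh
      show U.map (θ h).toMonoidHom = U
      have hd : ∀ S : Subgroup T, Disjoint S (θ h).toMonoidHom.ker := fun S => by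
        rw [(MonoidHom.ker_eq_bot_iff _).2 (θ h).injective]; exact disjoint_bot_right
      rw [hU, Cfsg.centerThompsonOf, CfsgLib.PLocal.map_centralizer_of_injOn _ _ (hd _),
        CfsgLib.PLocal.thompsonOf_map _ _ (hd _), ← hMP, hMmap h hh]
    have hN := hstab U hUb (fun e => hPtop (top_le_iff.1 (e ▸ hUP))) hle
    refine not_hasNormalPComplement hT hdvd ((Cfsg.Agent.S0117.result hp2 P).2 ?_)
    exact CfsgLib.Transfer.hasNormalPComplement_of_isPGroup (P.isPGroup'.to_le (hN.trans hMP.le))
  · -- the centraliser is abelian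
    obtain ⟨q, hq, hqd, hqp⟩ : ∃ q : ℕ, q.Prime ∧ q ∣ Nat.card M ∧ q ≠ p := by
      by_contra hcon
      push Not at hcon
      exact hMp (IsPGroup.iff_card.2 ⟨_, Nat.eq_prime_pow_of_unique_prime_dvd
        Nat.card_pos.ne' fun {d} hd hdd => hcon d hd hdd⟩)
    haveI : Fact q.Prime := ⟨hq⟩
    obtain ⟨⟨y, hyM⟩, hy⟩ := exists_prime_orderOf_dvd_card' (G := M) q hqd
    replace hy : orderOf y = q := by rw [← hy]; exact Subgroup.orderOf_coe (⟨y, hyM⟩ : M)
    have hy1 : y ≠ 1 := fun e => hq.ne_one (by rw [← hy, e, orderOf_one])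
    have hco : ∀ a : T, a ∈ (P : Subgroup T) → (orderOf a).Coprime (orderOf y) := by
      intro a ha
      obtain ⟨k, hk⟩ := (IsPGroup.iff_orderOf.1 P.isPGroup') ⟨a, ha⟩
      rw [← Subgroup.orderOf_coe] at hk
      rw [show orderOf a = p ^ k from hk, hy]
      exact ((Nat.coprime_primes hp hq).2 hqp.symm).pow_left _
    have hCy : centralizer ({y} : Set T) = M :=
      (key x y hx1 hy1 (mem_centralizer_singleton_iff.1 hyM).symm (hco x hxP)).symm
    have hCa : ∀ a ∈ (P : Subgroup T), a ≠ 1 → centralizer ({a} : Set T) = M := by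
      intro a ha ha1
      have hay : Commute a y := mem_centralizer_singleton_iff.1 (hCy ▸ hPM ha : a ∈ centralizer ({y} : Set T))
      rw [key a y ha1 hy1 hay (hco a ha), hCy]
    have hnorm : normalizer (P : Set T) ≤ M := by
      intro n hn
      have hxn : n * x * n⁻¹ ∈ (P : Subgroup T) := (mem_normalizer_iff.1 hn x).1 hxP
      have hmap : M.map (MulAut.conj n).toMonoidHom = M := by
        rw [hM, map_centralizer_singleton, MulAut.conj_apply, hCa _ hxn (by simpa using hx1)]
      refine hstab M (fun e => hPb (le_bot_iff.1 (e ▸ hPM))) ?_ (fun h hh => hMmap h hh)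
        (mem_normalizer_iff_map_conj_eq.2 hmap)
      intro e
      have : x ∈ center T := mem_center_iff.2 fun g =>
        mem_centralizer_singleton_iff.1 (show g ∈ M by rw [e]; exact mem_top g)
      rcases (inferInstance : (Subgroup.center T).Normal).eq_bot_or_eq_top with c | c
      · exact hx1 (mem_bot.1 (c ▸ this))
      · exact hT ⟨⟨fun a b => mem_center_iff.1 (c ▸ mem_top b : b ∈ center T) a⟩⟩
    have hburn : normalizer (P : Set T) ≤ centralizer (P : Set T) := by
      intro n hn
      refine mem_centralizer_iff.2 fun a ha => ?_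
      rcases eq_or_ne a 1 with rfl | ha1
      · simp
      · exact (mem_centralizer_singleton_iff.1 ((hCa a ha ha1).symm ▸ hnorm hn)).symm
    refine not_hasNormalPComplement hT hdvd ?_
    exact ⟨P, (MonoidHom.transferSylow P hburn).ker, inferInstance,
      MonoidHom.ker_transferSylow_isComplement' P hburn⟩

end CfsgLib.Perm.ExtremelyPrimitiveSocle
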