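import Mathlib
import Cfsg.Agent.Lib.Core.MinNormal
import Cfsg.Agent.Lib.Perm.ExtremelyPrimitiveSolvable
import Cfsg.Agent.Lib.Perm.ExtremelyPrimitiveSocle.Core

/-!
Owner: helper29. Extremely primitive groups are affine or almost simple (Mann, Praeger, Seress),
by a direct argument: a normal subgroup `R` of the point stabiliser `H` which moves the point `x • α`
gives `h * x * h⁻¹ ∈ R * x * R` for all `h ∈ H`.
-/

set_option autoImplicit false
set_option linter.all false

namespace CfsgLib.Perm.ExtremelyPrimitiveSocle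

open MulAction Subgroup

variable {G : Type*} [Group G] {Ω : Type*} [MulAction G Ω]

theorem mem_norm_iff {U : Subgroup G} {g : G} :
    g ∈ normalizer (U : Set G) ↔ U.map (MulAut.conj g).toMonoidHom = U :=
  mem_normalizer_iff_map_conj_eq

theorem map_conj_of_normal {U : Subgroup G} (hU : U.Normal) (g : G) :
    U.map (MulAut.conj g).toMonoidHom = U :=
  mem_norm_iff.1 (by rw [normalizer_eq_top]; exact mem_top g)

theorem normalizer_le_normalizer_centralizer' (U : Subgroup G) :
    normalizer (U : Set G) ≤ normalizer ((centralizer (U : Set G) : Subgroup G) : Set G) := by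
  intro g hg
  rw [mem_normalizer_iff] at hg
  refine mem_normalizer_iff.2 fun c => ?_
  simp only [mem_centralizer_iff, SetLike.mem_coe]
  constructor
  · intro hc u hu
    have := hc (g⁻¹ * u * g) ((hg _).2 (by simpa [mul_assoc] using hu))
    calc u * (g * c * g⁻¹) = g * ((g⁻¹ * u * g) * c) * g⁻¹ := by group
      _ = g * (c * (g⁻¹ * u * g)) * g⁻¹ := by rw [this]
      _ = g * c * g⁻¹ * u := by group
  · intro hc u hu
    have := hc (g * u * g⁻¹) ((hg u).1 hu)
    calc u * c = g⁻¹ * ((g * u * g⁻¹) * (g * c * g⁻¹)) * g := by group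
      _ = g⁻¹ * ((g * c * g⁻¹) * (g * u * g⁻¹)) * g := by rw [this]
      _ = c * u := by group

theorem conj_toMonoidHom_comp (a b : G) :
    (MulAut.conj a).toMonoidHom.comp (MulAut.conj b).toMonoidHom = (MulAut.conj (a * b)).toMonoidHom := by
  ext z
  simp [mul_assoc]

theorem map_conj_conj (U : Subgroup G) (a b : G) :
    (U.map (MulAut.conj b).toMonoidHom).map (MulAut.conj a).toMonoidHom =
      U.map (MulAut.conj (a * b)).toMonoidHom := by
  rw [Subgroup.map_map, conj_toMonoidHom_comp]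

theorem map_conj_one (U : Subgroup G) : U.map (MulAut.conj (1 : G)).toMonoidHom = U :=
  mem_norm_iff.1 (one_mem _)

/-- A minimal subgroup of `N` normalised by `N`. -/
structure IsComp (N U : Subgroup G) : Prop where
  le : U ≤ N
  ne_bot : U ≠ ⊥
  le_normalizer : N ≤ normalizer (U : Set G)
  min : ∀ V : Subgroup G, V ≤ U → N ≤ normalizer (V : Set G) → V = ⊥ ∨ V = U

theorem IsComp.conj {N U : Subgroup G} [hN : N.Normal] (hU : IsComp N U) (g : G) :
    IsComp N (U.map (MulAut.conj g).toMonoidHom) := by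
  have e : ∀ g : G, N.map (MulAut.conj g).toMonoidHom = N := fun g => map_conj_of_normal hN g
  have hn : ∀ (g : G) (V : Subgroup G), N ≤ normalizer (V : Set G) →
      N ≤ normalizer ((V.map (MulAut.conj g).toMonoidHom : Subgroup G) : Set G) := by
    intro g V h
    exact ((e g).ge.trans (Subgroup.map_mono h)).trans
      (map_normalizer_eq_of_bijective V (f := (MulAut.conj g).toMonoidHom) (MulAut.conj g).bijective).le
  refine ⟨(Subgroup.map_mono hU.le).trans (e g).le, ?_, hn g U hU.le_normalizer, fun V hV hVn => ?_⟩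
  · exact fun e => hU.ne_bot ((Subgroup.map_eq_bot_iff_of_injective U (f := (MulAut.conj g).toMonoidHom) (MulAut.conj g).injective).1 e)
  · have hback : (V.map (MulAut.conj g⁻¹).toMonoidHom).map (MulAut.conj g).toMonoidHom = V := by
      rw [Subgroup.map_map]
      convert V.map_id
      ext z
      simp [mul_assoc]
    have h1 : V.map (MulAut.conj g⁻¹).toMonoidHom ≤ U := by
      rintro _ ⟨v, hv, rfl⟩
      obtain ⟨u, hu, rfl⟩ := hV hv
      simpa [mul_assoc] using hu
    rcases hU.min _ h1 (hn _ V hVn) with h | h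
    · left; rw [← hback, h, Subgroup.map_bot]
    · right; rw [← hback, h]

theorem IsComp.inf_eq_bot {N U V : Subgroup G} (hU : IsComp N U) (hV : IsComp N V) (h : U ≠ V) :
    U ⊓ V = ⊥ := by
  rcases hU.min (U ⊓ V) inf_le_left
    ((le_inf hU.le_normalizer hV.le_normalizer).trans inf_normalizer_le_normalizer_inf) with e | e
  · exact e
  · have : U ≤ V := e ▸ inf_le_right
    rcases hV.min U this hU.le_normalizer with e' | e'
    · exact absurd e' hU.ne_bot
    · exact absurd e' h

theorem IsComp.commute {N U V : Subgroup G} (hU : IsComp N U) (hV : IsComp N V) (h : U ≠ V)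
    {u v : G} (hu : u ∈ U) (hv : v ∈ V) : u * v = v * u := by
  have hm : u * v * u⁻¹ * v⁻¹ ∈ U ⊓ V := by
    refine ⟨?_, mul_mem ((mem_normalizer_iff.1 (hV.le_normalizer (hU.le hu)) v).1 hv) (V.inv_mem hv)⟩
    have := (mem_normalizer_iff.1 (hU.le_normalizer (hV.le hv)) u⁻¹).1 (inv_mem hu)
    simpa [mul_assoc] using mul_mem hu this
  rw [hU.inf_eq_bot hV h, Subgroup.mem_bot] at hm
  exact mul_inv_eq_iff_eq_mul.1 (mul_inv_eq_one.1 hm)

theorem exists_isComp [Finite G] {N : Subgroup G} (hN : N ≠ ⊥) : ∃ T, IsComp N T := by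
  obtain ⟨T, ⟨h1, h2, h3⟩, hmin⟩ := WellFounded.has_min (wellFounded_lt (α := Subgroup G))
    {T | T ≤ N ∧ T ≠ ⊥ ∧ N ≤ normalizer (T : Set G)} ⟨N, le_rfl, hN, le_normalizer⟩
  refine ⟨T, h1, h2, h3, fun V hV hVn => ?_⟩
  by_contra hcon
  push Not at hcon
  exact hmin V ⟨hV.trans h1, hcon.1, hVn⟩ (lt_of_le_of_ne hV hcon.2)

/-- The standing hypotheses. -/
structure Hyp (α : Ω) : Prop where
  prim : IsPreprimitive G Ω
  faithful : ∀ g : G, (∀ ω : Ω, g • ω = ω) → g = 1
  ep : ∀ ω : Ω, IsPreprimitive (stabilizer G α) (orbit (stabilizer G α) ω)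
  nontriv : Nontrivial Ω
  ne_bot : stabilizer G α ≠ ⊥

variable {α : Ω}

theorem Hyp.eq_one_of_commute (hh : Hyp (G := G) α) {C : Subgroup G}
    (hC : ∀ ω, ∃ c ∈ C, c • α = ω) {n : G} (hn : ∀ c ∈ C, c * n = n * c) (h : n • α = α) : n = 1 := by
  refine hh.faithful n fun ω => ?_
  obtain ⟨c, hc, rfl⟩ := hC ω
  rw [smul_smul, ← hn c hc, mul_smul, h]

theorem Hyp.transitive (hh : Hyp (G := G) α) (N : Subgroup G) [N.Normal] (hN : N ≠ ⊥) :
    ∀ ω : Ω, ∃ n ∈ N, n • α = ω := by
  haveI := hh.prim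
  have hfix : fixedPoints N Ω ≠ .univ := fun h => hN ((Subgroup.eq_bot_iff_forall _).2 fun n hn =>
    hh.faithful n fun ω => (Set.eq_univ_iff_forall.1 h ω) ⟨n, hn⟩)
  haveI : IsPretransitive N Ω := IsQuasiPreprimitive.isPretransitive_of_normal hfix
  intro ω
  obtain ⟨n, hn⟩ := exists_smul_eq N α ω
  exact ⟨n, n.2, hn⟩

theorem Hyp.coatom (hh : Hyp (G := G) α) : IsCoatom (stabilizer G α) := by
  haveI := hh.prim
  haveI := hh.nontriv
  exact IsPreprimitive.isCoatom_stabilizer_of_isPreprimitive G α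

theorem Hyp.normalizer_eq (hh : Hyp (G := G) α) {R : Subgroup G} (hR : R ≠ ⊥)
    (hle : R ≤ stabilizer G α) (hn : stabilizer G α ≤ normalizer (R : Set G)) :
    normalizer (R : Set G) = stabilizer G α := by
  refine (hh.coatom.le_iff.1 hn).resolve_left fun h => hR ?_
  haveI : R.Normal := normalizer_eq_top_iff.1 h
  by_contra hR
  haveI := hh.nontriv
  obtain ⟨ω, hω⟩ := exists_ne α
  obtain ⟨r, hr, rfl⟩ := hh.transitive R hR ω
  exact hω (mem_stabilizer_iff.1 (hle hr))

theorem Hyp.coatom_stab [Finite G] (hh : Hyp (G := G) α) {ω : Ω} (hω : ω ≠ α) :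
    IsCoatom (stabilizer (stabilizer G α) ω) := by
  haveI := hh.ep ω
  have hmove : ∃ h : stabilizer G α, h • ω ≠ ω := by
    by_contra hcon
    push Not at hcon
    haveI := hh.prim
    obtain ⟨g, rfl⟩ := exists_smul_eq G α ω
    have hle : stabilizer G α ≤ stabilizer G (g • α) := fun h hh' => hcon ⟨h, hh'⟩
    have heq := (hh.coatom.le_iff.1 hle).resolve_left fun h => by
      refine hh.ne_bot ((Subgroup.eq_bot_iff_forall _).2 fun k hk => hh.faithful k fun ω => ?_)
      have : ∀ a : G, a • (g • α) = g • α := fun a => mem_stabilizer_iff.1 (h ▸ mem_top a)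
      obtain ⟨a, rfl⟩ := exists_smul_eq G (g • α) ω
      rw [this a, this k]
    have hg : g ∈ normalizer (stabilizer G α : Set G) := by
      rw [mem_norm_iff]
      exact (stabilizer_smul_eq_stabilizer_map_conj g α).symm.trans heq
    rw [hh.normalizer_eq hh.ne_bot le_rfl le_normalizer, mem_stabilizer_iff] at hg
    exact hω hg
  obtain ⟨h, hne⟩ := hmove
  haveI : Nontrivial (orbit (stabilizer G α) ω) :=
    ⟨⟨⟨h • ω, mem_orbit _ _⟩, ⟨ω, mem_orbit_self ω⟩, fun e => hne (congrArg Subtype.val e)⟩⟩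
  have := IsPreprimitive.isCoatom_stabilizer_of_isPreprimitive (stabilizer G α)
    (⟨ω, mem_orbit_self ω⟩ : orbit (stabilizer G α) ω)
  convert this using 1
  ext k
  exact ⟨fun h => Subtype.ext h, fun h => congrArg Subtype.val h⟩

theorem Hyp.double_coset [Finite G] (hh : Hyp (G := G) α) {N : Subgroup G} [hN : N.Normal]
    (hR : N ⊓ stabilizer G α ≠ ⊥) {x h : G} (hx : x ∈ N) (hxα : x • α ≠ α) (hhα : h • α = α) :
    ∃ r ∈ N ⊓ stabilizer G α, ∃ r' ∈ N ⊓ stabilizer G α, h * x * h⁻¹ = r * x * r' := by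
  set R := N ⊓ stabilizer G α with hRdef
  have hconj : stabilizer G α ≤ normalizer (R : Set G) :=
    (le_inf (by rw [normalizer_eq_top]; exact le_top) le_normalizer).trans inf_normalizer_le_normalizer_inf
  haveI : (R.subgroupOf (stabilizer G α)).Normal := normal_subgroupOf_of_le_normalizer hconj
  have hmv : ∃ t ∈ R.subgroupOf (stabilizer G α), t • (x • α) ≠ x • α := by
    by_contra hcon
    push Not at hcon
    have hle : R ≤ R.map (MulAut.conj x).toMonoidHom := by
      intro r hr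
      have hfix : r • x • α = x • α := hcon ⟨r, hr.2⟩ hr
      refine ⟨x⁻¹ * r * x, ⟨?_, ?_⟩, by simp [mul_assoc]⟩
      · exact hN.conj_mem' r hr.1 x
      · show (x⁻¹ * r * x) • α = α
        rw [mul_smul, mul_smul, hfix, inv_smul_smul]
    have heq := eq_of_le_of_card_ge hle (Nat.card_congr
      (R.equivMapOfInjective _ (MulAut.conj x).injective).toEquiv).ge
    have : x ∈ normalizer (R : Set G) := mem_norm_iff.2 heq.symm
    rw [hh.normalizer_eq hR inf_le_right hconj] at this
    exact hxα this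
  obtain ⟨t, ht, e⟩ := ExtremelyPrimitive.exists_smul_eq_of_normal (hh.ep (x • α))
    (R.subgroupOf (stabilizer G α)) hmv (β := h • x • α)
    (mem_orbit (x • α) (⟨h, hhα⟩ : stabilizer G α))
  change (t : G) • x • α = h • x • α at e
  refine ⟨t, ht, x⁻¹ * (t : G)⁻¹ * (h * x * h⁻¹), ⟨?_, ?_⟩, by group⟩
  · exact mul_mem (mul_mem (N.inv_mem hx) (N.inv_mem ht.1)) (hN.conj_mem x hx h)
  · show (x⁻¹ * (t : G)⁻¹ * (h * x * h⁻¹)) • α = α
    rw [mul_smul, mul_smul, mul_smul, mul_smul, inv_smul_eq_iff.2 hhα.symm, ← e, inv_smul_smul, inv_smul_smul]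

/-- A minimal normal subgroup with one of its components. -/
structure Socle (hh : Hyp (G := G) α) (N T : Subgroup G) : Prop where
  normal : N.Normal
  ne_bot : N ≠ ⊥
  min : ∀ M : Subgroup G, M.Normal → M ≤ N → M = ⊥ ∨ M = N
  nab : ¬ IsMulCommutative N
  comp : IsComp N T

variable [Finite G] {hh : Hyp (G := G) α} {N T : Subgroup G} (S : Socle hh N T)
include S

theorem Socle.decomp (g : G) : ∃ n ∈ N, ∃ h : G, h • α = α ∧ g = n * h := by
  haveI := S.normal
  obtain ⟨n, hn, e⟩ := hh.transitive N S.ne_bot (g • α)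
  exact ⟨n, hn, n⁻¹ * g, by rw [mul_smul, ← e, inv_smul_smul], by group⟩

theorem Socle.conj_eq (g : G) : ∃ h : G, h • α = α ∧
    T.map (MulAut.conj g).toMonoidHom = T.map (MulAut.conj h).toMonoidHom := by
  haveI := S.normal
  obtain ⟨n, hn, h, hh', rfl⟩ := S.decomp g
  refine ⟨h, hh', ?_⟩
  have hn' := mem_norm_iff.1 ((S.comp.conj h).le_normalizer hn)
  conv_rhs => rw [← hn']
  rw [Subgroup.map_map]
  congr 1
  ext z
  simp [mul_assoc]

theorem Socle.generate : (⨆ h : stabilizer G α, T.map (MulAut.conj (h : G)).toMonoidHom) = N := by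
  haveI := S.normal
  set M := ⨆ h : stabilizer G α, T.map (MulAut.conj (h : G)).toMonoidHom with hM
  have hle : M ≤ N := iSup_le fun h => (S.comp.conj _).le
  have hnorm : M.Normal := by
    refine ⟨fun m hm g => ?_⟩
    have : M.map (MulAut.conj g).toMonoidHom ≤ M := by
      rw [hM, Subgroup.map_iSup]
      refine iSup_le fun h => ?_
      rw [map_conj_conj]
      obtain ⟨k, hk, e⟩ := S.conj_eq (g * h)
      rw [e]
      exact le_iSup (fun h : stabilizer G α => T.map (MulAut.conj (h : G)).toMonoidHom) ⟨k, hk⟩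
    exact this ⟨m, hm, rfl⟩
  refine (S.min M hnorm hle).resolve_left fun h => S.comp.ne_bot ?_
  rw [eq_bot_iff, ← h]
  exact le_trans (fun t ht => Subgroup.mem_map.2 ⟨t, ht, by simp⟩) (le_iSup (fun h : stabilizer G α => T.map (MulAut.conj (h : G)).toMonoidHom) 1)

theorem Socle.le_of_comps {A : Subgroup G} (hA : ∀ h : G, h • α = α → T.map (MulAut.conj h).toMonoidHom ≤ A) :
    N ≤ A := by
  rw [← S.generate]; exact iSup_le fun h => hA h h.2

theorem Socle.not_commutative : ¬ ∀ t ∈ T, ∀ u ∈ T, t * u = u * t := by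
  intro hc
  haveI := S.normal
  have hTC : T ≤ centralizer (N : Set G) := by
    rw [← Subgroup.le_centralizer_iff]
    refine S.le_of_comps fun h _ => fun u hu => mem_centralizer_iff.2 fun t ht => ?_
    by_cases e : T.map (MulAut.conj h).toMonoidHom = T
    · exact hc t ht u (e ▸ hu)
    · exact S.comp.commute (S.comp.conj h) (Ne.symm e) ht hu
  rcases S.min (N ⊓ centralizer (N : Set G)) inferInstance inf_le_left with e | e
  · exact S.comp.ne_bot (le_bot_iff.1 (e ▸ le_inf S.comp.le hTC))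
  · refine S.nab (Subgroup.le_centralizer_iff_isMulCommutative.1 ?_)
    conv_lhs => rw [← e]
    exact inf_le_right

theorem Socle.eq_one_of_central {t : G} (ht : t ∈ T) (hc : ∀ u ∈ T, t * u = u * t) : t = 1 := by
  have hn : N ≤ normalizer ((T ⊓ centralizer (T : Set G) : Subgroup G) : Set G) :=
    (le_inf S.comp.le_normalizer (S.comp.le_normalizer.trans (normalizer_le_normalizer_centralizer' _))).trans
      inf_normalizer_le_normalizer_inf
  rcases S.comp.min _ inf_le_left hn with e | e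
  · exact mem_bot.1 (e ▸ ⟨ht, mem_centralizer_iff.2 fun u hu => (hc u hu).symm⟩)
  · refine absurd ?_ S.not_commutative
    intro a ha b hb
    have : a ∈ T ⊓ centralizer (T : Set G) := e.symm ▸ ha
    exact (mem_centralizer_iff.1 this.2 b hb).symm

theorem Socle.simple : IsSimpleGroup T := by
  haveI : Nontrivial T := T.nontrivial_iff_ne_bot.2 S.comp.ne_bot
  refine ⟨fun M hM => ?_⟩
  haveI := S.normal
  have hn : N ≤ normalizer ((M.map T.subtype : Subgroup G) : Set G) := by
    refine S.le_of_comps fun h _ => ?_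
    by_cases e : T.map (MulAut.conj h).toMonoidHom = T
    · rw [e]
      intro t ht
      rw [mem_norm_iff, Subgroup.map_map,
        show (MulAut.conj t).toMonoidHom.comp T.subtype =
          T.subtype.comp (MulAut.conj (⟨t, ht⟩ : T)).toMonoidHom from MonoidHom.ext fun _ => rfl,
        ← Subgroup.map_map, map_conj_of_normal hM]
    · refine fun u hu => Subgroup.centralizer_le_normalizer _ (mem_centralizer_iff.2 ?_)
      rintro _ ⟨t, -, rfl⟩
      exact S.comp.commute (S.comp.conj h) (Ne.symm e) t.2 hu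
  rcases S.comp.min _ (map_subtype_le M) hn with e | e
  · exact Or.inl ((Subgroup.map_eq_bot_iff_of_injective _ T.subtype_injective).1 e)
  · refine Or.inr (Subgroup.map_injective T.subtype_injective ?_)
    rw [e, ← MonoidHom.range_eq_map, range_subtype]

theorem Socle.not_isMulCommutative : ¬ IsMulCommutative T := fun h =>
  S.not_commutative fun t ht u hu => congrArg Subtype.val (h.is_comm.comm ⟨t, ht⟩ ⟨u, hu⟩)

/-- Every element of `N` acts on a component as one of its elements. -/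
theorem Socle.exists_action {a : G} (ha : a ∈ N) : ∃ t ∈ T, ∀ u ∈ T, a * u * a⁻¹ = t * u * t⁻¹ := by
  haveI := S.normal
  let A : Subgroup G :=
    { carrier := {a | ∃ t ∈ T, ∀ u ∈ T, a * u * a⁻¹ = t * u * t⁻¹}
      one_mem' := ⟨1, one_mem _, fun _ _ => rfl⟩
      mul_mem' := by
        rintro a b ⟨t, ht, hta⟩ ⟨s, hs, hsb⟩
        refine ⟨t * s, mul_mem ht hs, fun u hu => ?_⟩
        rw [show a * b * u * (a * b)⁻¹ = a * (b * u * b⁻¹) * a⁻¹ by group, hsb u hu,
          hta _ (mul_mem (mul_mem hs hu) (inv_mem hs))]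
        group
      inv_mem' := by
        rintro a ⟨t, ht, hta⟩
        refine ⟨t⁻¹, inv_mem ht, fun u hu => ?_⟩
        have h := hta (t⁻¹ * u * t) (mul_mem (mul_mem (inv_mem ht) hu) ht)
        rw [show t * (t⁻¹ * u * t) * t⁻¹ = u by group] at h
        conv_lhs => rw [← h]
        group }
  refine (S.le_of_comps (A := A) fun h _ => ?_) ha
  by_cases e : T.map (MulAut.conj h).toMonoidHom = T
  · rw [e]; exact fun t ht => ⟨t, ht, fun _ _ => rfl⟩
  · refine fun v hv => ⟨1, one_mem _, fun u hu => ?_⟩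
    rw [← S.comp.commute (S.comp.conj h) (Ne.symm e) hu hv]
    group

theorem Socle.mem_normalizer_of_common {h n : G} (hn : n ∈ T) (hn' : h * n * h⁻¹ = n) (hn1 : n ≠ 1) :
    h ∈ normalizer (T : Set G) := by
  haveI := S.normal
  rw [mem_norm_iff]
  by_contra e
  exact hn1 (mem_bot.1 ((S.comp.conj h).inf_eq_bot S.comp e ▸ ⟨⟨n, hn, hn'⟩, hn⟩))

/-- If `N` is regular, a component is normal or is centralised by its normaliser in the stabiliser. -/
theorem Socle.regular_case (hreg : ∀ n ∈ N, n • α = α → n = 1) :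
    T.Normal ∨ ∀ h, h • α = α → h ∈ normalizer (T : Set G) → ∀ t ∈ T, h * t * h⁻¹ = t := by
  haveI := S.normal
  by_cases hK : stabilizer G α ≤ normalizer (T : Set G)
  · left
    refine normalizer_eq_top_iff.1 (top_le_iff.1 fun g _ => ?_)
    obtain ⟨n, hn, h, hh', rfl⟩ := S.decomp g
    exact mul_mem (S.comp.le_normalizer hn) (hK hh')
  right
  intro h hhα hn t ht
  rcases eq_or_ne t 1 with rfl | ht1
  · group
  have hω : t • α ≠ α := fun e => ht1 (hreg t (S.comp.le ht) e)
  have hfix : ∀ k : G, k • α = α → (k • t • α = t • α ↔ k * t * k⁻¹ = t) := by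
    intro k hk
    have e : k • t • α = (k * t * k⁻¹) • α := by
      rw [mul_smul, mul_smul, inv_smul_eq_iff.2 hk.symm]
    rw [e]
    refine ⟨fun he => ?_, fun he => by rw [he]⟩
    have := hreg (t⁻¹ * (k * t * k⁻¹)) (mul_mem (inv_mem (S.comp.le ht))
      (S.normal.conj_mem t (S.comp.le ht) k)) (by rw [mul_smul, he, inv_smul_smul])
    exact (inv_mul_eq_one.1 this).symm
  have hle : stabilizer (stabilizer G α) (t • α) ≤ (normalizer (T : Set G)).subgroupOf (stabilizer G α) :=
    fun k hk => S.mem_normalizer_of_common ht ((hfix k k.2).1 hk) ht1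
  have heq := ((hh.coatom_stab hω).le_iff.1 hle).resolve_left fun e => hK (subgroupOf_eq_top.1 e)
  have hmem : (⟨h, hhα⟩ : stabilizer G α) ∈ (normalizer (T : Set G)).subgroupOf (stabilizer G α) := hn
  rw [heq] at hmem
  exact (hfix h hhα).1 hmem

theorem Socle.false_of_centralizer (hC : centralizer (N : Set G) ≠ ⊥) : False := by
  haveI := S.normal
  set C := centralizer (N : Set G) with hCdef
  haveI : C.Normal := inferInstance
  have hCtr := hh.transitive C hC
  have hreg : ∀ n ∈ N, n • α = α → n = 1 := fun n hn e =>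
    hh.eq_one_of_commute hCtr (fun c hc => (mem_centralizer_iff.1 hc n hn).symm) e
  have hlift : ∀ t ∈ N, ∃ c ∈ C, (c * t) • α = α := by
    intro t ht
    obtain ⟨c, hc, e⟩ := hCtr (t • α)
    exact ⟨c⁻¹, inv_mem hc, by rw [mul_smul, ← e, inv_smul_smul]⟩
  rcases S.regular_case hreg with hT | hcent
  · have hTN : T = N := (S.min T hT S.comp.le).resolve_left S.comp.ne_bot
    subst hTN
    haveI := S.simple
    refine false_of_twist (θ := (MulAut.conjNormal (H := T)).comp (stabilizer G α).subtype) (ε := 1)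
      S.not_isMulCommutative (fun t => ?_) (fun x hx => ?_)
    · obtain ⟨c, hc, e⟩ := hlift t t.2
      refine ⟨⟨c * t, e⟩, rfl, MulEquiv.ext fun u => Subtype.ext ?_⟩
      show c * t * (u : G) * (c * t)⁻¹ = (t : G) * u * (t : G)⁻¹
      rw [show c * (t : G) * u * (c * t)⁻¹ = c * (t * u * (t : G)⁻¹) * c⁻¹ by group,
        ← mem_centralizer_iff.1 hc _ (mul_mem (mul_mem t.2 u.2) (inv_mem t.2))]
      group
    · have hω : (x : G) • α ≠ α := fun e => hx (Subtype.ext (hreg x x.2 e))
      convert hh.coatom_stab hω using 1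
      ext k
      rw [mem_twist, MulAction.mem_stabilizer_iff, Subtype.ext_iff]
      have hk : (k : G) • α = α := k.2
      have e : (k : G) • (x : G) • α = ((k : G) * x * (k : G)⁻¹) • α := by
        rw [mul_smul, mul_smul, inv_smul_eq_iff.2 hk.symm]
      show (k : G) * x * (k : G)⁻¹ = ((x ^ ((1 : stabilizer G α →* ℤˣ) k : ℤ) : T) : G) ↔ (k : G) • (x : G) • α = _
      rw [e, MonoidHom.one_apply, Units.val_one, zpow_one]
      refine ⟨fun h => by rw [h], fun h => ?_⟩
      exact (inv_mul_eq_one.1 (hreg _ (mul_mem (inv_mem x.2) (S.normal.conj_mem _ x.2 _))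
        (by rw [mul_smul, h, inv_smul_smul]))).symm
  · refine S.not_commutative fun t ht u hu => ?_
    obtain ⟨c, hc, e⟩ := hlift t (S.comp.le ht)
    have hcc : ∀ v ∈ N, c * v * c⁻¹ = v := fun v hv => by
      rw [← mem_centralizer_iff.1 hc v hv]; group
    have hn : c * t ∈ normalizer (T : Set G) := by
      refine mul_mem ?_ (S.comp.le_normalizer (S.comp.le ht))
      refine Subgroup.centralizer_le_normalizer _ (Subgroup.centralizer_le S.comp.le hc)
    have h := hcent _ e hn u hu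
    rw [show c * t * u * (c * t)⁻¹ = c * (t * u * t⁻¹) * c⁻¹ by group,
      hcc _ (S.comp.le (mul_mem (mul_mem ht hu) (inv_mem ht)))] at h
    exact mul_inv_eq_iff_eq_mul.1 h

theorem Socle.false_of_regular (hT : ¬ T.Normal) (hreg : ∀ n ∈ N, n • α = α → n = 1) : False := by
  classical
  haveI := S.normal
  have hcent := (S.regular_case hreg).resolve_left hT
  obtain ⟨⟨n, hn⟩, hn1⟩ := ne_bot_iff_exists_ne_one.1 S.comp.ne_bot
  replace hn1 : n ≠ 1 := fun e => hn1 (Subtype.ext e)
  set H := stabilizer G α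
  set K := (normalizer (T : Set G)).subgroupOf H
  haveI : Fintype (H ⧸ K) := Fintype.ofFinite _
  let f : H ⧸ K → G := Quotient.lift (fun h : H => (h : G) * n * (h : G)⁻¹) (fun a b hab => by
    have hab' : a⁻¹ * b ∈ K := QuotientGroup.leftRel_apply.1 hab
    have := hcent _ (a⁻¹ * b).2 hab' n hn
    simp only [Subgroup.coe_mul, Subgroup.coe_inv] at this
    show (a : G) * n * (a : G)⁻¹ = _
    conv_lhs => rw [← this]
    group)
  have hf : ∀ a b : H, (QuotientGroup.mk a : H ⧸ K) ≠ QuotientGroup.mk b →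
      ∀ u ∈ T.map (MulAut.conj (a : G)).toMonoidHom, ∀ v ∈ T.map (MulAut.conj (b : G)).toMonoidHom,
        u * v = v * u := by
    intro a b hab u hu v hv
    refine (S.comp.conj _).commute (S.comp.conj _) (fun e => hab (QuotientGroup.eq.2 ?_)) hu hv
    show ((a⁻¹ * b : H) : G) ∈ normalizer (T : Set G)
    rw [mem_norm_iff, Subgroup.coe_mul, ← map_conj_conj, ← e, map_conj_conj, Subgroup.coe_inv,
      inv_mul_cancel, map_conj_one]
  have hcomm : (Set.univ : Set (H ⧸ K)).Pairwise (Function.onFun Commute f) := by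
    rintro ⟨a⟩ - ⟨b⟩ - hab
    exact hf a b hab _ ⟨n, hn, rfl⟩ _ ⟨n, hn, rfl⟩
  have hcomm' : ∀ s : Finset (H ⧸ K), (s : Set (H ⧸ K)).Pairwise (Function.onFun Commute f) :=
    fun s => hcomm.mono (Set.subset_univ _)
  set d := Finset.univ.noncommProd f (hcomm' _) with hd
  have hdN : d ∈ N := Subgroup.noncommProd_mem _ _ fun q _ => by
    induction q using QuotientGroup.induction_on with
    | H a => exact S.normal.conj_mem n (S.comp.le hn) a
  have hd1 : d ≠ 1 := by
    intro e
    have h := Finset.mul_noncommProd_erase Finset.univ (Finset.mem_univ (QuotientGroup.mk 1 : H ⧸ K)) f (hcomm' _)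
    rw [← hd, e] at h
    set rest := (Finset.univ.erase (QuotientGroup.mk 1 : H ⧸ K)).noncommProd f (hcomm' _)
    have hf1 : f (QuotientGroup.mk 1) = n := by show (1 : G) * n * (1 : G)⁻¹ = n; group
    rw [hf1] at h
    have hr : n = rest⁻¹ := eq_inv_of_mul_eq_one_left h
    refine hn1 (S.eq_one_of_central hn fun u hu => ?_)
    have : Commute u rest := Finset.noncommProd_commute _ _ _ u fun q hq => by
      induction q using QuotientGroup.induction_on with
      | H a =>
        exact hf 1 a (Ne.symm (Finset.ne_of_mem_erase hq)) u ⟨u, hu, by simp⟩ _ ⟨n, hn, rfl⟩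
    rw [hr]
    exact this.inv_right.symm
  have hfix : ∀ h : H, (h : G) * d * (h : G)⁻¹ = d := by
    intro h
    have e := Finset.map_noncommProd Finset.univ f (hcomm' _) (MulAut.conj (h : G))
    rw [← hd] at e
    refine e.trans ?_
    unfold Finset.noncommProd at hd ⊢
    rw [hd]
    congr 1
    conv_rhs => rw [← Multiset.map_univ_val_equiv (MulAction.toPerm h : Equiv.Perm (H ⧸ K)), Multiset.map_map]
    refine Multiset.map_congr rfl fun q _ => ?_
    induction q using QuotientGroup.induction_on with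
    | H a => show (h : G) * ((a : G) * n * (a : G)⁻¹) * (h : G)⁻¹ = ((h * a : H) : G) * n * ((h * a : H) : G)⁻¹
             simp only [Subgroup.coe_mul]; group
  have hω : d • α ≠ α := fun e => hd1 (hreg d hdN e)
  refine (hh.coatom_stab hω).1 (top_le_iff.1 fun h _ => ?_)
  show (h : G) • d • α = d • α
  conv_rhs => rw [← hfix h, mul_smul, mul_smul, inv_smul_eq_iff.2 (show α = (h : G) • α from h.2.symm)]

theorem Socle.false_of_diag (hT : ¬ T.Normal) (hR : N ⊓ stabilizer G α ≠ ⊥) : False := by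
  classical
  haveI := S.normal
  haveI := S.simple
  set R := N ⊓ stabilizer G α with hRdef
  have hRconj : ∀ a ∈ R, ∀ t ∈ T, a * t * a⁻¹ ∈ T := fun a ha t ht =>
    (mem_normalizer_iff.1 (S.comp.le_normalizer ha.1) t).1 ht
  obtain ⟨h₀, hh₀, hU⟩ : ∃ h : G, h • α = α ∧ T.map (MulAut.conj h).toMonoidHom ≠ T := by
    by_contra hcon
    push Not at hcon
    refine hT (normalizer_eq_top_iff.1 (top_le_iff.1 fun g _ => ?_))
    obtain ⟨n, hn, h, hh', rfl⟩ := S.decomp g
    exact mul_mem (S.comp.le_normalizer hn) (mem_norm_iff.2 (hcon h hh'))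
  set U := T.map (MulAut.conj h₀).toMonoidHom with hUdef
  have hUc : IsComp N U := S.comp.conj h₀
  -- the projection of `R` on `T` is onto
  have hproj : ∀ t ∈ T, ∃ a ∈ R, ∀ u ∈ T, a * u * a⁻¹ = t * u * t⁻¹ := by
    intro x hx
    by_contra hno
    have hxα : x • α ≠ α := fun e => hno ⟨x, ⟨S.comp.le hx, e⟩, fun _ _ => rfl⟩
    obtain ⟨r, hr, r', hr', e⟩ := hh.double_coset hR (S.comp.le hx) hxα hh₀
    obtain ⟨t, ht, hta⟩ := S.exists_action hr.1
    obtain ⟨t', ht', hta'⟩ := S.exists_action hr'.1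
    have h1 : t * x * t' = 1 := by
      refine S.eq_one_of_central (mul_mem (mul_mem ht hx) ht') fun u hu => ?_
      have hu' : h₀ * x * h₀⁻¹ * u * (h₀ * x * h₀⁻¹)⁻¹ = u := by
        rw [hUc.commute S.comp hU (show h₀ * x * h₀⁻¹ ∈ U from ⟨x, hx, rfl⟩) hu]
        group
      rw [e, show r * x * r' * u * (r * x * r')⁻¹ = r * (x * (r' * u * r'⁻¹) * x⁻¹) * r⁻¹ by group,
        hta' u hu, hta _ (mul_mem (mul_mem hx (mul_mem (mul_mem ht' hu) (inv_mem ht'))) (inv_mem hx))] at hu'
      rw [← mul_inv_eq_iff_eq_mul]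
      convert hu' using 1
      group
    refine hno ⟨r⁻¹ * r'⁻¹, mul_mem (inv_mem hr) (inv_mem hr'), fun u hu => ?_⟩
    have hinv : ∀ a s : G, s ∈ T → (∀ u ∈ T, a * u * a⁻¹ = s * u * s⁻¹) → ∀ u ∈ T, a⁻¹ * u * a = s⁻¹ * u * s := by
      intro a s hs h u hu
      have := h (s⁻¹ * u * s) (mul_mem (mul_mem (inv_mem hs) hu) hs)
      rw [show s * (s⁻¹ * u * s) * s⁻¹ = u by group] at this
      conv_lhs => rw [← this]
      group
    rw [show x = t⁻¹ * t'⁻¹ by
        rw [show t⁻¹ * t'⁻¹ = t⁻¹ * (t * x * t') * t'⁻¹ by rw [h1, mul_one]]; group,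
      show r⁻¹ * r'⁻¹ * u * (r⁻¹ * r'⁻¹)⁻¹ = r⁻¹ * (r'⁻¹ * u * r') * r by group,
      hinv r' t' ht' hta' u hu, hinv r t ht hta _ (mul_mem (mul_mem (inv_mem ht') hu) ht')]
    group
  -- `R` meets `T` trivially
  have hRT : ∀ t ∈ T, t • α = α → t = 1 := by
    have hn : (R.subgroupOf T).Normal := by
      refine ⟨fun s hs g => ?_⟩
      obtain ⟨a, ha, hag⟩ := hproj g g.2
      show (g : G) * s * (g : G)⁻¹ ∈ R
      rw [← hag s s.2]
      exact mul_mem (mul_mem ha hs) (inv_mem ha)
    intro t ht e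
    rcases hn.eq_bot_or_eq_top with h | h
    · have hm : (⟨t, ht⟩ : T) ∈ R.subgroupOf T := ⟨S.comp.le ht, e⟩
      rw [h, mem_bot] at hm
      exact congrArg Subtype.val hm
    · exfalso
      have hTH : T ≤ stabilizer G α := (subgroupOf_eq_top.1 h).trans inf_le_right
      have hNH : N ≤ stabilizer G α := S.le_of_comps fun h hh' => by
        rintro _ ⟨s, hs, rfl⟩
        exact mul_mem (mul_mem hh' (hTH hs)) (inv_mem hh')
      haveI := hh.nontriv
      obtain ⟨ω, hω⟩ := exists_ne α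
      obtain ⟨m, hm, e'⟩ := hh.transitive N S.ne_bot ω
      exact hω (e'.symm.trans (hNH hm))
  -- elements of `R` supported on two components
  have hsupp : ∀ h : G, h • α = α → ∀ x ∈ T, x ≠ 1 → ∃ u ∈ T, u ≠ 1 ∧ h * x * h⁻¹ * u ∈ R := by
    intro h hhα x hx hx1
    obtain ⟨r, hr, r', hr', e⟩ := hh.double_coset hR (S.comp.le hx) (fun e => hx1 (hRT x hx e)) hhα
    refine ⟨r'⁻¹ * x⁻¹ * r', ?_, ?_, ?_⟩
    · simpa using hRconj r'⁻¹ (inv_mem hr') x⁻¹ (inv_mem hx)
    · intro h1
      apply hx1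
      have : x⁻¹ = r' * (r'⁻¹ * x⁻¹ * r') * r'⁻¹ := by group
      rw [h1, mul_one, mul_inv_cancel, inv_eq_one] at this
      exact this
    · rw [e, show r * x * r' * (r'⁻¹ * x⁻¹ * r') = r * r' by group]
      exact mul_mem hr hr'
  -- there are only two components
  have htwo : ∀ h : G, h • α = α →
      T.map (MulAut.conj h).toMonoidHom = T ∨ T.map (MulAut.conj h).toMonoidHom = U := by
    intro h hhα
    by_contra hcon
    push Not at hcon
    set V := T.map (MulAut.conj h).toMonoidHom with hVdef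
    have hVc : IsComp N V := S.comp.conj h
    obtain ⟨⟨x, hx⟩, hx1⟩ := ne_bot_iff_exists_ne_one.1 S.comp.ne_bot
    replace hx1 : x ≠ 1 := fun e => hx1 (Subtype.ext e)
    obtain ⟨u, hu, hu1, hs1⟩ := hsupp h₀ hh₀ x hx hx1
    obtain ⟨v, hv, hv1, hs2⟩ := hsupp h hhα x hx hx1
    set y := h₀ * x * h₀⁻¹
    set w := h * x * h⁻¹
    have hy : y ∈ U := ⟨x, hx, rfl⟩
    have hw : w ∈ V := ⟨x, hx, rfl⟩
    have hcomm : ∀ t ∈ T, u * (t * v * t⁻¹) = (t * v * t⁻¹) * u := by
      intro t ht
      obtain ⟨a, ha, hat⟩ := hproj t ht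
      set w' := a * w * a⁻¹
      set v' := t * v * t⁻¹ with hv'
      have hw' : w' ∈ V := (mem_normalizer_iff.1 (hVc.le_normalizer ha.1) w).1 hw
      have hv'T : v' ∈ T := mul_mem (mul_mem ht hv) (inv_mem ht)
      have hs3 : w' * v' ∈ R := by
        rw [show w' * v' = a * (w * v) * a⁻¹ by
          show a * w * a⁻¹ * (t * v * t⁻¹) = _
          rw [← hat v hv]
          group]
        exact mul_mem (mul_mem ha hs2) (inv_mem ha)
      have hmem : (y * u) * (w' * v') * (y * u)⁻¹ * (w' * v')⁻¹ ∈ R :=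
        mul_mem (mul_mem (mul_mem hs1 hs3) (inv_mem hs1)) (inv_mem hs3)
      have e1 : (y * u) * (w' * v') * (y * u)⁻¹ * (w' * v')⁻¹ = u * v' * u⁻¹ * v'⁻¹ := by
        have c1 : u * w' = w' * u := S.comp.commute hVc (Ne.symm hcon.1) hu hw'
        have c2 : y * w' = w' * y := hUc.commute hVc (Ne.symm hcon.2) hy hw'
        have c3 : y * (u * v' * u⁻¹) = (u * v' * u⁻¹) * y :=
          hUc.commute S.comp hU hy (mul_mem (mul_mem hu hv'T) (inv_mem hu))
        have c4 : w' * (u * v' * u⁻¹ * v'⁻¹) = (u * v' * u⁻¹ * v'⁻¹) * w' :=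
          hVc.commute S.comp hcon.1 hw' (mul_mem (mul_mem (mul_mem hu hv'T) (inv_mem hu)) (inv_mem hv'T))
        calc (y * u) * (w' * v') * (y * u)⁻¹ * (w' * v')⁻¹
            = y * (u * w') * (v' * u⁻¹) * y⁻¹ * v'⁻¹ * w'⁻¹ := by group
          _ = (y * w') * (u * v' * u⁻¹) * y⁻¹ * v'⁻¹ * w'⁻¹ := by rw [c1]; group
          _ = w' * (y * (u * v' * u⁻¹)) * y⁻¹ * v'⁻¹ * w'⁻¹ := by rw [c2]; group
          _ = (w' * (u * v' * u⁻¹ * v'⁻¹)) * w'⁻¹ := by rw [c3]; group
          _ = u * v' * u⁻¹ * v'⁻¹ := by rw [c4]; group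
      rw [e1] at hmem
      have := hRT _ (mul_mem (mul_mem (mul_mem hu hv'T) (inv_mem hu)) (inv_mem hv'T)) hmem.2
      exact mul_inv_eq_iff_eq_mul.1 (mul_inv_eq_one.1 this)
    have htop : Subgroup.normalClosure ({(⟨v, hv⟩ : T)} : Set T) = ⊤ := by
      refine (Subgroup.normalClosure_normal.eq_bot_or_eq_top).resolve_left fun e => hv1 ?_
      have := Subgroup.subset_normalClosure (Set.mem_singleton (⟨v, hv⟩ : T))
      rw [SetLike.mem_coe, e, mem_bot] at this
      exact congrArg Subtype.val this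
    refine hu1 (S.eq_one_of_central hu fun z hz => ?_)
    have hle : Subgroup.normalClosure ({(⟨v, hv⟩ : T)} : Set T) ≤ centralizer ({(⟨u, hu⟩ : T)} : Set T) := by
      rw [Subgroup.normalClosure, Subgroup.closure_le]
      intro b hb
      obtain ⟨a, ha, hc⟩ := Group.mem_conjugatesOfSet_iff.1 hb
      rw [Set.mem_singleton_iff] at ha
      subst ha
      obtain ⟨c, rfl⟩ := isConj_iff.1 hc
      refine mem_centralizer_singleton_iff.2 (Subtype.ext ?_)
      exact (hcomm c c.2).symm
    exact (congrArg Subtype.val (mem_centralizer_singleton_iff.1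
      (hle (htop ▸ mem_top (⟨z, hz⟩ : T))))).symm
  -- `T` is regular on the points
  have hdec : ∀ n ∈ N, ∃ t ∈ T, ∃ u ∈ U, n = t * u := by
    intro n hn
    let f := MonoidHom.noncommCoprod T.subtype U.subtype
      fun t u => S.comp.commute hUc (Ne.symm hU) t.2 u.2
    have hle : N ≤ f.range := by
      refine le_trans ?_ (MonoidHom.noncommCoprod_range T.subtype U.subtype _).ge
      rw [range_subtype, range_subtype]
      refine S.le_of_comps fun h hhα => ?_
      rcases htwo h hhα with e | e <;> rw [e]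
      · exact le_sup_left
      · exact le_sup_right
    obtain ⟨⟨t, u⟩, e⟩ := hle hn
    exact ⟨t, t.2, u, u.2, e.symm⟩
  have hex : ∀ ω : Ω, ∃ x : T, (x : G) • α = ω := by
    intro ω
    obtain ⟨n, hn, rfl⟩ := hh.transitive N S.ne_bot ω
    obtain ⟨t, ht, u, hu, rfl⟩ := hdec n hn
    obtain ⟨s, hs, hsu⟩ := hu
    obtain ⟨b, hb, hbs⟩ := hproj s hs
    have hsu' : h₀ * s * h₀⁻¹ = u := hsu
    set a := h₀ * b * h₀⁻¹ with hadef
    have ha : a ∈ R := ⟨S.normal.conj_mem b hb.1 h₀, (stabilizer G α).mul_mem ((stabilizer G α).mul_mem hh₀ hb.2) ((stabilizer G α).inv_mem hh₀)⟩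
    obtain ⟨t', ht', u', hu', e⟩ := hdec a ha.1
    obtain ⟨s', hs', hsu''⟩ := hu'
    have hsu2 : h₀ * s' * h₀⁻¹ = u' := hsu''
    have hss : s⁻¹ * s' = 1 := by
      refine S.eq_one_of_central (mul_mem (inv_mem hs) hs') fun z hz => ?_
      have h1 : a * (h₀ * z * h₀⁻¹) * a⁻¹ = h₀ * (s * z * s⁻¹) * h₀⁻¹ := by
        rw [hadef, ← hbs z hz]; group
      have h2 : a * (h₀ * z * h₀⁻¹) * a⁻¹ = h₀ * (s' * z * s'⁻¹) * h₀⁻¹ := by
        have hzU : u' * (h₀ * z * h₀⁻¹) * u'⁻¹ = h₀ * (s' * z * s'⁻¹) * h₀⁻¹ := by rw [← hsu2]; group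
        rw [e, show t' * u' * (h₀ * z * h₀⁻¹) * (t' * u')⁻¹ = t' * (u' * (h₀ * z * h₀⁻¹) * u'⁻¹) * t'⁻¹ by group,
          hzU, S.comp.commute hUc (Ne.symm hU) ht' (show h₀ * (s' * z * s'⁻¹) * h₀⁻¹ ∈ U from
            ⟨s' * z * s'⁻¹, mul_mem (mul_mem hs' hz) (inv_mem hs'), rfl⟩)]
        group
      have h3 : s * z * s⁻¹ = s' * z * s'⁻¹ := mul_left_cancel (mul_right_cancel (h1.symm.trans h2))
      calc s⁻¹ * s' * z = s⁻¹ * (s' * z * s'⁻¹) * s' := by group
        _ = z * (s⁻¹ * s') := by rw [← h3]; group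
    have huu : u' = u := by rw [← hsu', ← hsu2, inv_mul_eq_one.1 hss]
    refine ⟨⟨t * t'⁻¹, mul_mem ht (inv_mem ht')⟩, ?_⟩
    show (t * t'⁻¹) • α = (t * u) • α
    rw [show t * u = t * t'⁻¹ * a by rw [e, huu]; group, mul_smul (t * t'⁻¹) a, show a • α = α from ha.2]
  have hinj : Function.Injective fun x : T => (x : G) • α := by
    intro x y e
    have := hRT ((x⁻¹ * y : T) : G) (x⁻¹ * y).2 (by
      simp only [Subgroup.coe_mul, Subgroup.coe_inv, mul_smul]
      rw [← show (x : G) • α = (y : G) • α from e, inv_smul_smul])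
    exact inv_mul_eq_one.1 (Subtype.ext this)
  let ee : T ≃ Ω := Equiv.ofBijective (fun x : T => (x : G) • α) ⟨hinj, hex⟩
  let σ : stabilizer G α → T → T := fun h x => ee.symm ((h : G) • ee x)
  have hσe : ∀ h x, ((σ h x : T) : G) • α = (h : G) • (x : G) • α := fun h x => ee.apply_symm_apply _
  have hσ_mul : ∀ a b x, σ (a * b) x = σ a (σ b x) := fun a b x => hinj (by
    show ((σ (a * b) x : T) : G) • α = ((σ a (σ b x) : T) : G) • α
    rw [hσe, hσe, hσe, Subgroup.coe_mul, mul_smul])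
  have hσR : ∀ h x, ((σ h x : T) : G)⁻¹ * ((h : G) * x * (h : G)⁻¹) ∈ stabilizer G α := fun h x => by
    have hhfix : (h : G) • α = α := h.2
    show (((σ h x : T) : G)⁻¹ * ((h : G) * x * (h : G)⁻¹)) • α = α
    rw [mul_smul, mul_smul, mul_smul, inv_smul_eq_iff.2 hhfix.symm, ← hσe, inv_smul_smul]
  let K := (normalizer (T : Set G)).subgroupOf (stabilizer G α)
  have hmemK : ∀ h : stabilizer G α, h ∈ K ↔ T.map (MulAut.conj (h : G)).toMonoidHom = T :=
    fun h => mem_norm_iff
  have hmapmap : ∀ a b : G, (T.map (MulAut.conj b).toMonoidHom).map (MulAut.conj a).toMonoidHom =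
      T.map (MulAut.conj (a * b)).toMonoidHom := fun a b =>
    map_conj_conj T a b
  have hKK : ∀ a b : stabilizer G α, a ∉ K → b ∉ K → a * b ∈ K := by
    intro a b ha hb
    have hb' := (htwo b b.2).resolve_left (fun e => hb ((hmemK b).2 e))
    have ha' := (htwo a a.2).resolve_left (fun e => ha ((hmemK a).2 e))
    refine (hmemK _).2 ((htwo _ (a * b).2).resolve_right fun e => hU ?_)
    rw [Subgroup.coe_mul, ← hmapmap, hb'] at e
    exact Subgroup.map_injective (MulAut.conj (a : G)).injective (e.trans ha'.symm)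
  let ε : stabilizer G α →* ℤˣ :=
    { toFun := fun h => if h ∈ K then 1 else -1
      map_one' := by simp [K.one_mem]
      map_mul' := fun a b => by
        by_cases ha : a ∈ K <;> by_cases hb : b ∈ K
        · simp [ha, hb, K.mul_mem ha hb]
        · simp [ha, hb, (K.mul_mem_cancel_left ha).not.2 hb]
        · simp [ha, hb, (K.mul_mem_cancel_right hb).not.2 ha]
        · simp [ha, hb, hKK a b ha hb] }
  have hσK : ∀ h ∈ K, ∀ x : T, ((σ h x : T) : G) = (h : G) * x * (h : G)⁻¹ := by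
    intro h hK x
    have hm : (h : G) * x * (h : G)⁻¹ ∈ T := (mem_normalizer_iff.1 hK x).1 x.2
    exact inv_mul_eq_one.1 (hRT _ (mul_mem (inv_mem (σ h x).2) hm) (hσR h x))
  have hσanti : ∀ h ∉ K, ∀ x y : T, σ h (x * y) = σ h y * σ h x := by
    intro h hK x y
    apply hinj
    show ((σ h (x * y) : T) : G) • α = (((σ h y : T) : G) * ((σ h x : T) : G)) • α
    rw [mul_smul]
    have hUh := (htwo h h.2).resolve_left (fun e => hK ((hmemK h).2 e))
    have hc : ((σ h y : T) : G) * ((h : G) * x * (h : G)⁻¹) = ((h : G) * x * (h : G)⁻¹) * (σ h y : T) :=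
      S.comp.commute hUc (Ne.symm hU) (σ h y).2 (hUh ▸ ⟨x, x.2, rfl⟩)
    have hhfix : (h : G)⁻¹ • α = α := inv_smul_eq_iff.2 (show α = (h : G) • α from h.2.symm)
    have ey : (h : G) • (y : G) • α = ((σ h y : T) : G) • α := (hσe h y).symm
    have ex : ((h : G) * x * (h : G)⁻¹) • α = ((σ h x : T) : G) • α := by
      rw [mul_smul, mul_smul, hhfix, hσe]
    calc ((σ h (x * y) : T) : G) • α = ((h : G) * x * (h : G)⁻¹) • (h : G) • (y : G) • α := by
          rw [hσe, Subgroup.coe_mul]; simp only [← mul_smul]; congr 1; group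
      _ = ((σ h y : T) : G) • ((h : G) * x * (h : G)⁻¹) • α := by
          rw [ey, ← mul_smul, ← mul_smul, hc]
      _ = _ := by rw [ex]
  let th : ∀ h : stabilizer G α, T →* T := fun h =>
    MonoidHom.mk' (fun x => σ h x ^ (ε h : ℤ)) fun x y => by
      by_cases hK : h ∈ K
      · have he : ε h = 1 := if_pos hK
        simp only [he, Units.val_one, zpow_one]
        apply Subtype.ext
        rw [Subgroup.coe_mul, hσK h hK, hσK h hK, hσK h hK, Subgroup.coe_mul]
        group
      · have he : ε h = -1 := if_neg hK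
        simp only [he, Units.val_neg, Units.val_one, zpow_neg, zpow_one, hσanti h hK, mul_inv_rev]
  have hzp : ∀ u : ℤˣ, Function.Injective fun x : T => x ^ (u : ℤ) := by
    intro u
    rcases Int.units_eq_one_or u with rfl | rfl
    · intro a b e; simpa using e
    · intro a b e; simpa using e
  have hthbij : ∀ h, Function.Bijective (th h) := fun h =>
    Finite.injective_iff_bijective.1 fun x y e =>
      ee.injective (MulAction.injective (h : G) (ee.symm.injective (hzp _ e)))
  let θ : stabilizer G α →* MulAut T :=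
    MonoidHom.mk' (fun h => MulEquiv.ofBijective (th h) (hthbij h)) fun a b => MulEquiv.ext fun x => by
      show σ (a * b) x ^ (ε (a * b) : ℤ) = th a (σ b x ^ (ε b : ℤ))
      rw [map_zpow, hσ_mul, map_mul, Units.val_mul, zpow_mul]
      rfl
  refine false_of_twist (θ := θ) (ε := ε) S.not_isMulCommutative (fun t => ?_) (fun x hx => ?_)
  · obtain ⟨a, ha, hat⟩ := hproj t t.2
    have hK : (⟨a, ha.2⟩ : stabilizer G α) ∈ K := S.comp.le_normalizer ha.1
    have he : ε ⟨a, ha.2⟩ = 1 := if_pos hK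
    refine ⟨⟨a, ha.2⟩, he, MulEquiv.ext fun u => ?_⟩
    show σ ⟨a, ha.2⟩ u ^ (ε ⟨a, ha.2⟩ : ℤ) = _
    rw [he, Units.val_one, zpow_one]
    exact Subtype.ext ((hσK _ hK u).trans (hat u u.2))
  · have hω : (x : G) • α ≠ α := fun e => hx (Subtype.ext (hRT x x.2 e))
    convert hh.coatom_stab hω using 1
    ext k
    rw [mem_twist, MulAction.mem_stabilizer_iff]
    show σ k x ^ (ε k : ℤ) = x ^ (ε k : ℤ) ↔ (k : G) • (x : G) • α = _
    rw [(hzp _).eq_iff, ← hσe]
    exact ⟨fun e => by rw [e], fun e => hinj e⟩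

omit S in
/-- Extremely primitive groups are affine or almost simple. -/
theorem affine_or_almost_simple {Ω' : Type*} [Fintype Ω'] [MulAction G Ω'] [FaithfulSMul G Ω']
    (hΩ : 2 ≤ Fintype.card Ω') (hprim : IsPreprimitive G Ω')
    (hep : ∀ a ω : Ω', IsPreprimitive (stabilizer G a) (orbit (stabilizer G a) ω)) :
    (∃ N : Subgroup G, N.Normal ∧ N ≠ ⊥ ∧ IsMulCommutative N ∧ ∀ ω : Ω', stabilizer N ω = ⊥) ∨
      (∃ T : Subgroup G, T.Normal ∧ IsSimpleGroup T ∧ ¬ IsMulCommutative T ∧
        centralizer (T : Set G) = ⊥) := by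
  haveI := hprim
  haveI hnt : Nontrivial Ω' := Fintype.one_lt_card_iff_nontrivial.1 hΩ
  obtain ⟨a, b, hab⟩ := exists_pair_ne Ω'
  obtain ⟨g, hg⟩ := exists_smul_eq G a b
  have hfaith : ∀ g : G, (∀ ω : Ω', g • ω = ω) → g = 1 := fun g h =>
    FaithfulSMul.eq_of_smul_eq_smul (α := Ω') fun ω => by rw [h, one_smul]
  haveI : Nontrivial G := ⟨g, 1, fun e => hab (by rw [← hg, e, one_smul])⟩
  have affine : ∀ N : Subgroup G, N.Normal → N ≠ ⊥ → IsMulCommutative N →
      ∀ ω : Ω', stabilizer N ω = ⊥ := by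
    intro N hN hb hc ω
    have hfix : fixedPoints N Ω' ≠ .univ := fun h => hb ((Subgroup.eq_bot_iff_forall _).2 fun n hn =>
      hfaith n fun x => (Set.eq_univ_iff_forall.1 h x) ⟨n, hn⟩)
    haveI : IsPretransitive N Ω' := IsQuasiPreprimitive.isPretransitive_of_normal hfix
    refine (Subgroup.eq_bot_iff_forall _).2 fun n hn => Subtype.ext (hfaith n fun x => ?_)
    obtain ⟨m, rfl⟩ := exists_smul_eq N ω x
    show n • m • ω = m • ω
    rw [smul_smul, hc.is_comm.comm n m, mul_smul, mem_stabilizer_iff.1 hn]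
  by_cases hb : stabilizer G a = ⊥
  · left
    have hco := IsPreprimitive.isCoatom_stabilizer_of_isPreprimitive G a
    rw [hb] at hco
    have hg1 : g ≠ 1 := fun e => hab (by rw [← hg, e, one_smul])
    have htop : zpowers g = ⊤ := (hco.le_iff.1 bot_le).resolve_right (zpowers_ne_bot.2 hg1)
    refine ⟨⊤, inferInstance, top_ne_bot, ?_, affine ⊤ inferInstance top_ne_bot ?_⟩ <;>
    · haveI : IsMulCommutative (zpowers g) := inferInstance
      rw [← htop]; infer_instance
  obtain ⟨N, hNn, hNb, -, hmin⟩ := CfsgLib.Core.exists_minimal_normal_le' (⊤ : Subgroup G) top_ne_bot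
  by_cases hc : IsMulCommutative N
  · exact Or.inl ⟨N, hNn, hNb, hc, affine N hNn hNb hc⟩
  obtain ⟨T, hT⟩ := exists_isComp hNb
  have hh : Hyp (G := G) a := ⟨hprim, hfaith, hep a, hnt, hb⟩
  have S : Socle hh N T := ⟨hNn, hNb, hmin, hc, hT⟩
  haveI := hNn
  by_cases hC : centralizer (N : Set G) = ⊥
  · by_cases hTn : T.Normal
    · have hTN : T = N := (hmin T hTn hT.le).resolve_left hT.ne_bot
      subst hTN
      exact Or.inr ⟨T, hTn, S.simple, hc, hC⟩
    · exfalso
      by_cases hR : N ⊓ stabilizer G a = ⊥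
      · exact S.false_of_regular hTn fun n hn e => mem_bot.1 (hR ▸ ⟨hn, e⟩)
      · exact S.false_of_diag hTn hR
  · exact (S.false_of_centralizer hC).elim

end CfsgLib.Perm.ExtremelyPrimitiveSocle
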